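import Mathlib.Algebra.Homology.DerivedCategory.RightDerivedFunctorPlus
import Groth.Agent.Lib.SpecSeqPlus.Basic

/-!
# Maps from high degrees into an object of bounded injective amplitude
-/

universe w w' v v' u u'

open CategoryTheory CategoryTheory.Limits

namespace Groth.Agent.Lib.InjAmp89

variable {C : Type u} [Category.{v} C] [Abelian C]

/-- A chain map into a complex with split exact tail, from a complex living in that tail, is null
homotopic. -/
theorem nullHomotopic_of_split (I : CochainComplex C ℤ) (m : ℤ)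
    (h : ∀ (A : C) (a b c : ℤ), a + 1 = b → b + 1 = c → m < b → ∀ z : A ⟶ I.X b, z ≫ I.d b c = 0 →
      ∃ y : A ⟶ I.X a, y ≫ I.d a b = z)
    (X : CochainComplex C ℤ) (i : ℤ) [X.IsStrictlyGE i] (hi : m < i) (φ : X ⟶ I) :
    Nonempty (Homotopy φ 0) := by
  have hs : ∀ (a b : ℤ), a + 1 = b → m < b → ∃ s : I.cycles b ⟶ I.X a, s ≫ I.d a b = I.iCycles b :=
    fun a b hab hb => h _ a b (b + 1) hab rfl hb _ (I.iCycles_d b (b + 1))
  choose s hs using hs
  have hk : ∀ (a b c : ℤ) (hab : a + 1 = b) (hbc : b + 1 = c) (hb : m < b),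
      (𝟙 (I.X b) - I.toCycles b c ≫ s b c hbc (hb.trans (by omega))) ≫ I.d b c = 0 := by
    intro a b c hab hbc hb
    rw [Preadditive.sub_comp, Category.id_comp, Category.assoc, hs, HomologicalComplex.toCycles_i,
      sub_self]
  let k : ∀ (b a : ℤ), a + 1 = b → m < b → (I.X b ⟶ I.X a) := fun b a hab hb =>
    I.liftCycles _ (b + 1) (CochainComplex.next ℤ b) (hk a b (b + 1) hab rfl hb) ≫ s a b hab hb
  have hrel : ∀ (a b c : ℤ) (hab : a + 1 = b) (hbc : b + 1 = c) (hb : m < b),
      k b a hab hb ≫ I.d a b + I.d b c ≫ k c b hbc (hb.trans (by omega)) = 𝟙 (I.X b) := by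
    intro a b c hab hbc hb
    subst hbc
    have e1 : k b a hab hb ≫ I.d a b =
        𝟙 (I.X b) - I.toCycles b (b + 1) ≫ s b (b + 1) rfl (hb.trans (by omega)) := by
      simp only [k, Category.assoc, hs, HomologicalComplex.liftCycles_i]
    have e2 : I.d b (b + 1) ≫ k (b + 1) b rfl (hb.trans (by omega)) =
        I.toCycles b (b + 1) ≫ s b (b + 1) rfl (hb.trans (by omega)) := by
      simp only [k, ← Category.assoc]
      congr 1
      rw [← cancel_mono (I.iCycles (b + 1))]
      simp only [Category.assoc, HomologicalComplex.liftCycles_i, Preadditive.comp_sub,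
        Category.comp_id, HomologicalComplex.toCycles_i]
      rw [← Category.assoc (I.d b (b + 1)), HomologicalComplex.d_toCycles, zero_comp, sub_zero]
    rw [e1, e2, sub_add_cancel]
  let H : ∀ b a : ℤ, (X.X b ⟶ I.X a) := fun b a =>
    if hab : a + 1 = b ∧ m < b then φ.f b ≫ k b a hab.1 hab.2 else 0
  refine ⟨{ hom := H, zero := fun b a hba => ?_, comm := fun b => ?_ }⟩
  · rw [ComplexShape.up_Rel] at hba
    exact dif_neg fun hc => hba hc.1
  · rcases lt_or_ge b i with hb | hb
    · exact (CochainComplex.isZero_of_isStrictlyGE X i b hb).eq_of_src _ _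
    rw [HomologicalComplex.zero_f, add_zero,
      dNext_eq _ (show (ComplexShape.up ℤ).Rel b (b + 1) by simp),
      prevD_eq _ (show (ComplexShape.up ℤ).Rel (b - 1) b by simp)]
    have hb' : m < b := by omega
    have hb1 : m < b + 1 := by omega
    show φ.f b = X.d b (b + 1) ≫ H (b + 1) b + H b (b - 1) ≫ I.d (b - 1) b
    dsimp only [H]
    rw [dif_pos (⟨rfl, hb1⟩ : b + 1 = b + 1 ∧ m < b + 1),
      dif_pos (⟨by omega, hb'⟩ : b - 1 + 1 = b ∧ m < b), Category.assoc, ← φ.comm_assoc,
      ← Preadditive.comp_add, add_comm, hrel (b - 1) b (b + 1) (by omega) rfl hb', Category.comp_id]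

variable [HasDerivedCategory.{w} C]

/-- In `D(C)`: if a K-injective complex receives no maps from single objects in degrees `> m`,
it receives none from complexes in degrees `≥ i > m`. -/
theorem subsingleton_hom_Q (I : CochainComplex C ℤ) [I.IsKInjective] (m : ℤ)
    (h : ∀ (A : C) (n : ℤ), m < n →
      Subsingleton ((DerivedCategory.singleFunctor C n).obj A ⟶ DerivedCategory.Q.obj I))
    (K : DerivedCategory C) (i : ℤ) [K.IsGE i] (hi : m < i) :
    Subsingleton (K ⟶ DerivedCategory.Q.obj I) := by
  have hbd : ∀ (A : C) (a b c : ℤ), a + 1 = b → b + 1 = c → m < b →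
      ∀ z : A ⟶ I.X b, z ≫ I.d b c = 0 → ∃ y : A ⟶ I.X a, y ≫ I.d a b = z := by
    intro A a b c hab hbc hb z hz
    subst hbc
    let ψ : (HomologicalComplex.single C (ComplexShape.up ℤ) b).obj A ⟶ I :=
      HomologicalComplex.mkHomFromSingle z (fun j hj => by
        obtain rfl : b + 1 = j := hj
        exact hz)
    let e := (DerivedCategory.singleFunctorIsoCompQ C b).app A
    have h0 : DerivedCategory.Q.map ψ = DerivedCategory.Q.map (0 : _ ⟶ I) :=
      (cancel_epi e.hom).1 ((h A b hb).elim _ _)
    have h1 : (HomotopyCategory.quotient C (ComplexShape.up ℤ)).map ψ =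
        (HomotopyCategory.quotient C (ComplexShape.up ℤ)).map 0 := by
      apply (CochainComplex.IsKInjective.Qh_map_bijective _ _).injective
      refine (cancel_mono ((DerivedCategory.quotientCompQhIso C).app I).hom).1 ?_
      exact ((DerivedCategory.quotientCompQhIso C).hom.naturality ψ).trans
        ((congrArg (_ ≫ ·) h0).trans ((DerivedCategory.quotientCompQhIso C).hom.naturality 0).symm)
    let ho := HomotopyCategory.homotopyOfEq _ _ h1
    refine ⟨(HomologicalComplex.singleObjXSelf _ b A).inv ≫ ho.hom b a, ?_⟩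
    have hc := ho.comm b
    rw [HomologicalComplex.zero_f, add_zero, HomologicalComplex.mkHomFromSingle_f,
      dNext_eq _ (show (ComplexShape.up ℤ).Rel b (b + 1) by simp),
      prevD_eq _ (show (ComplexShape.up ℤ).Rel a b by simpa using hab),
      HomologicalComplex.single_obj_d, zero_comp, zero_add] at hc
    rw [Category.assoc, ← hc, Iso.inv_hom_id_assoc]
  obtain ⟨X, _, ⟨eX⟩⟩ := DerivedCategory.exists_iso_Q_obj_of_isGE K i
  refine subsingleton_of_forall_eq 0 fun f => ?_
  obtain ⟨φh, hφ⟩ := (CochainComplex.IsKInjective.Qh_map_bijective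
    ((HomotopyCategory.quotient C _).obj X) I).surjective
      (((DerivedCategory.quotientCompQhIso C).app X).hom ≫ eX.inv ≫ f ≫
        ((DerivedCategory.quotientCompQhIso C).app I).inv)
  obtain ⟨φ, rfl⟩ := (HomotopyCategory.quotient _ _).map_surjective φh
  obtain ⟨ho⟩ := nullHomotopic_of_split I m hbd X i hi φ
  rw [HomotopyCategory.eq_of_homotopy _ _ ho, Functor.map_zero, Functor.map_zero] at hφ
  have := hφ.symm
  rwa [← cancel_epi eX.inv, comp_zero, ← cancel_mono ((DerivedCategory.quotientCompQhIso C).app I).inv,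
    zero_comp, ← cancel_epi ((DerivedCategory.quotientCompQhIso C).app X).hom, comp_zero,
    Category.assoc]

variable [EnoughInjectives C]

/-- In `D⁺(C)`. -/
theorem subsingleton_hom_plus (L : DerivedCategory.Plus C) (m : ℤ)
    (h : ∀ (A : C) (n : ℤ), m < n →
      Subsingleton ((DerivedCategory.Plus.singleFunctor C 0).obj A ⟶ L⟦n⟧))
    (K : DerivedCategory.Plus C) (i : ℤ) [K.IsGE i] (hi : m < i) :
    Subsingleton (K ⟶ L) := by
  let X := (DerCat.RFPlus.E (C := C)).objPreimage L
  let e := (DerCat.RFPlus.E (C := C)).objObjPreimageIso L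
  obtain ⟨J, hJ⟩ := HomotopyCategory.Plus.quotient_obj_surjective X
  let I : CochainComplex C ℤ :=
    ((InjectiveObject.ι C).mapHomologicalComplex (.up ℤ)).obj J.obj
  have : I.IsKInjective := inferInstance
  let eI : DerivedCategory.Q.obj I ≅ DerivedCategory.Plus.ι.obj L :=
    ((DerivedCategory.quotientCompQhIso C).app I).symm ≪≫
      DerivedCategory.Plus.ι.mapIso (eqToIso (congrArg _ hJ) ≪≫ e)
  have h' : ∀ (A : C) (n : ℤ), m < n →
      Subsingleton ((DerivedCategory.singleFunctor C n).obj A ⟶ DerivedCategory.Q.obj I) := by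
    intro A n hn
    let e₁ : (DerivedCategory.Plus.singleFunctor C n).obj A ≅
        ((DerivedCategory.Plus.singleFunctor C 0).obj A)⟦-n⟧ :=
      (((DerivedCategory.Plus.singleFunctors C).shiftIso (-n) n 0 (by omega)).app A).symm
    have h₀ : Subsingleton ((DerivedCategory.Plus.singleFunctor C 0).obj A ⟶
        (shiftEquiv' (DerivedCategory.Plus C) (-n) n (neg_add_cancel n)).inverse.obj L) := h A n hn
    have : Subsingleton (((DerivedCategory.Plus.singleFunctor C 0).obj A)⟦-n⟧ ⟶ L) :=
      ((shiftEquiv' (DerivedCategory.Plus C) (-n) n (neg_add_cancel n)).toAdjunction.homEquiv _ _).subsingleton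
    have : Subsingleton ((DerivedCategory.Plus.singleFunctor C n).obj A ⟶ L) :=
      (e₁.homCongr (Iso.refl L)).subsingleton
    have : Subsingleton (DerivedCategory.Plus.ι.obj ((DerivedCategory.Plus.singleFunctor C n).obj A) ⟶
        DerivedCategory.Plus.ι.obj L) :=
      DerivedCategory.Plus.ι.map_surjective.subsingleton
    have : Subsingleton ((DerivedCategory.singleFunctor C n).obj A ⟶ DerivedCategory.Plus.ι.obj L) := this
    exact ((Iso.refl _).homCongr eI).subsingleton
  have := subsingleton_hom_Q I m h' (DerivedCategory.Plus.ι.obj K) i hi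
  have : Subsingleton (DerivedCategory.Plus.ι.obj K ⟶ DerivedCategory.Plus.ι.obj L) :=
    ((Iso.refl _).homCongr eI.symm).subsingleton
  exact DerivedCategory.Plus.ι.map_injective.subsingleton

variable {D : Type u'} [Category.{v'} D] [Abelian D] [HasDerivedCategory.{w'} D]

/-- Right derived functors respect lower bounds. -/
theorem isGE_rightDerived (T : C ⥤ D) [T.Additive] (X : DerivedCategory.Plus C) (a : ℤ) [X.IsGE a] :
    (T.rightDerivedFunctorPlus.obj X).IsGE a := by
  rw [← DerivedCategory.Plus.isGE_ι_obj_iff, DerivedCategory.isGE_iff]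
  exact fun n hn => (SpecSeqPlus.Basic.isZero_shift_of_isGE T X a n hn).of_iso
    (SpecSeqPlus.Basic.shiftHomologyIso T n X).symm

end Groth.Agent.Lib.InjAmp89
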